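import Groth.Agent.RedSub.K209.Cartan
import Groth.Agent.RedSub.H638.PinFull
import Groth.Agent.Sga3B.SplitRedField415
import Groth.Agent.Sga3B.BaseZ

/-!
# The Cartan decomposition of split reductive groups over schemes
-/

set_option autoImplicit false
universe u

open CategoryTheory MonoidalCategory CartesianMonoidalCategory MonObj GrpObj AlgebraicGeometry

namespace K209.CartanSch

open Groth.Agent.Sga3B Groth.Agent.Sga3B.Cell Groth.Agent.Sga3B.Cell.Datum
open Groth.Agent.Sga3B.PinMod Groth.Agent.Sga3B.PinFinal Groth.Agent.Sga3B.DSPts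
open Groth.Agent.Sga3B.GaPts Groth.Agent.Sga3B.PinBuild Groth.Agent.Sga3B.PinModelOf
open Groth.Agent.RedSub.H638.PinFull Groth.Agent.RedSub.H660.Iwasawa
open K209.Cartan

section

variable {idx M : Type} [Finite idx] [AddCommGroup M] [Module.Finite ℤ M]

/-- a root datum has a base and an opposite base -/
theorem exists_opp_base (P : RootPairing idx ℤ M (Module.Dual ℤ M)) [P.IsReduced] :
    ∃ b b' : P.Base, ∀ a, b'.IsPos a ↔ ¬ b.IsPos a := by
  obtain ⟨f, hf⟩ := BaseZ.exists_functional P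
  obtain ⟨b, hb⟩ := BaseZ.exists_base_isPos P f hf
  obtain ⟨b', hb'⟩ := BaseZ.exists_base_isPos P (-f) (fun i h => hf i (by
    rw [AddMonoidHom.neg_apply] at h
    omega))
  refine ⟨b, b', fun a => ?_⟩
  rw [hb, hb', AddMonoidHom.neg_apply]
  have := hf a
  omega

end

variable {S : Scheme.{u}} {G : Over S} [GrpObj G] {R : Type u} [CommRing R]
  {s : Spec (CommRingCat.of R) ⟶ S}

lemma eq_aux {B : Type u} [CommRing B] [Algebra R B] (e e' : Rˣ) (x : B) :
    algebraMap R B e' * x = algebraMap R B e * (algebraMap R B ((e⁻¹ * e' : Rˣ) : R) * x) := by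
  rw [← _root_.mul_assoc, ← map_mul, ← Units.val_mul, mul_inv_cancel_left]

/-- opposite pinned cells in a chart of a split group -/
theorem exists_opp (D : Red.SplitRed G) (c : Chart G s) (b b' : D.P.Base)
    (hb : ∀ a, b'.IsPos a ↔ ¬ b.IsPos a) :
    ∃ (E : PinCell D.P b R c.A) (E' : PinCell D.P b' R c.A), Opp E E' ∧
      (∀ (B : Type u) [CommRing B] [Algebra R B] (t : TPt D.M B), E.i B t = (c.datum D).i B t) ∧
      ∃ ε : D.idx → Rˣ, ∀ (a : D.idx) (B : Type u) [CommRing B] [Algebra R B] (x : B),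
        E.uu a B x = (c.datum D).uu a B (algebraMap R B (ε a) * x) := by
  have : Smooth G.hom := D.reductive.2.1
  have : Algebra.Smooth R c.A := ChartFib.smooth_of_isPullback c.isPullback
  obtain ⟨E, ε, -, hi, hu⟩ := exists_pinCell_full (D := c.datum D)
    (fun K _ _ => ChartFib.isDomain D.reductive c.isPullback K) (good D c) D.P
    (fun a => rfl) D.pairing_eq b (fun a _ => by
      obtain ⟨n, hn⟩ := exists_acts D c a
      exact ⟨n, fun t => conj_of_acts (D := c.datum D) D.P (fun a => rfl) D.pairing_eq hn t⟩)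
  obtain ⟨E', ε', -, hi', hu'⟩ := exists_pinCell_full (D := c.datum D)
    (fun K _ _ => ChartFib.isDomain D.reductive c.isPullback K) (good D c) D.P
    (fun a => rfl) D.pairing_eq b' (fun a _ => by
      obtain ⟨n, hn⟩ := exists_acts D c a
      exact ⟨n, fun t => conj_of_acts (D := c.datum D) D.P (fun a => rfl) D.pairing_eq hn t⟩)
  refine ⟨E, E', ⟨hb, fun B _ _ t => (hi' B t).trans (hi B t).symm,
    fun a => (ε a)⁻¹ * ε' a, fun a B _ _ x => ?_⟩, hi, ε, hu⟩
  refine (hu' a B x).trans (Eq.trans ?_ (hu a B _).symm)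
  congr 1
  exact eq_aux (ε a) (ε' a) x

/-- **Cartan decomposition** for split groups. -/
theorem cartan_split (D : Red.SplitRed G) (s : Spec (CommRingCat.of R) ⟶ S)
    {V : Type u} [CommRing V] [IsDomain V] [ValuationRing V]
    [Infinite (IsLocalRing.ResidueField V)]
    {K : Type u} [Field K] [Algebra V K] [IsFractionRing V K]
    [Algebra R V] [Algebra R K] [IsScalarTower R V K] (g : tB s K ⟶ G) :
    ∃ (k₁ k₂ : tB s V ⟶ G) (t : TPt D.M K),
      g = (tMap s (inc R V K) ≫ k₁) * (dsEquiv (tB s K) D.M (chΓ s t) ≫ Chart.j D) *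
        (tMap s (inc R V K) ≫ k₂) := by
  have : IsAffineHom G.hom := D.reductive.1
  have hne : Nonempty S := ⟨(Spec.map (CommRingCat.ofHom (algebraMap R V)) ≫ s)
    (IsLocalRing.closedPoint V)⟩
  have hred : D.P.IsReduced := SplitReduced415.isReduced D
  obtain ⟨b, b', hb⟩ := exists_opp_base D.P
  obtain ⟨c⟩ := exists_chart G s
  obtain ⟨E, E', hE, hi, -⟩ := exists_opp D c b b' hb
  obtain ⟨k₁, k₂, t, h⟩ := Cartan.cartan (V := V) hE ((c.pts K).symm g)
  refine ⟨c.pts V k₁, c.pts V k₂, t, ?_⟩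
  rw [c.pts_nat, c.pts_nat, ← c.pts_i, ← hi, ← map_mul, ← map_mul]
  exact ((c.pts K).symm_apply_eq.1 h)

end K209.CartanSch
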