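import Groth.Agent.RedSub.K209.CellGen

/-!
# The Cartan decomposition `G(K) = G(V) T(K) G(V)` of a pinned group

`V` any valuation ring with infinite residue field over `R`, `K` its fraction field, `E`, `E'` two
opposite pinned cells of the same group.
-/

set_option autoImplicit false
set_option linter.unusedSectionVars false
universe u

namespace K209.Cartan

open Groth.Agent.Sga3B Groth.Agent.Sga3B.Cell
open Groth.Agent.Sga3B.Word
open Groth.Agent.RedSub.H660.Iwasawa
open MvPolynomial K209.CellGen K209.Gauss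

variable {idx M : Type} [Fintype idx] [AddCommGroup M] [Module.Free ℤ M]
    [Module.Finite ℤ M] {P : RootPairing idx ℤ M (Module.Dual ℤ M)} {b b' : P.Base}
    {R A : Type u} [CommRing R] [CommRing A] [Algebra R A] [PtGrp R A] (E : PinCell P b R A)
    (E' : PinCell P b' R A)

/-- two opposite pinned cells of one group, with the same torus and the same root groups -/
structure Opp (E : PinCell P b R A) (E' : PinCell P b' R A) : Prop where
  neg : ∀ a, b'.IsPos a ↔ ¬ b.IsPos a
  i : ∀ (B : Type u) [CommRing B] [Algebra R B] (t : TPt M B), E'.i B t = E.i B t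
  uu : ∃ ε : idx → Rˣ, ∀ (a : idx) (B : Type u) [CommRing B] [Algebra R B] (x : B),
    E'.uu a B x = E.uu a B (algebraMap R B (ε a) * x)

variable {E E'}

lemma Opp.posP (h : Opp E E') {B : Type u} [CommRing B] [Algebra R B] (x : idx → B) :
    ∃ y : idx → B, posP E' x = negP E y := by
  classical
  obtain ⟨ε, hε⟩ := h.uu
  refine ⟨fun a => algebraMap R B (ε a) * x a, ?_⟩
  have hl : posList b' = negList b := by
    unfold posList negList
    congr 1
    ext a
    simp only [Finset.mem_filter, Finset.mem_univ, true_and]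
    exact h.neg a
  unfold Word.posP negP
  rw [hl]
  congr 1
  apply List.map_congr_left
  intro a _
  exact hε a B (x a)

lemma Opp.negP (h : Opp E E') {B : Type u} [CommRing B] [Algebra R B] (x : idx → B) :
    ∃ y : idx → B, Word.negP E' x = Word.posP E y := by
  classical
  obtain ⟨ε, hε⟩ := h.uu
  refine ⟨fun a => algebraMap R B (ε a) * x a, ?_⟩
  have hl : negList b' = posList b := by
    unfold posList negList
    congr 1
    ext a
    simp only [Finset.mem_filter, Finset.mem_univ, true_and]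
    rw [h.neg a, not_not]
  unfold Word.posP Word.negP
  rw [hl]
  congr 1
  apply List.map_congr_left
  intro a _
  exact hε a B (x a)

section torus

variable {V : Type u} [CommRing V] [IsDomain V] [ValuationRing V] {σ : Type}
  {K K₁ : Type u} [Field K] [Algebra V K] [IsFractionRing V K] [Field K₁]
  [Algebra (GV V σ) K₁] [IsFractionRing (GV V σ) K₁] [Algebra K K₁] [Algebra V K₁]
  [IsScalarTower V (GV V σ) K₁] [IsScalarTower V K K₁]

/-- a torus point from its values on a basis -/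
lemma exists_TPt {B : Type u} [CommRing B] {ι : Type} (e : Module.Basis ι ℤ M) (f : ι → Bˣ) :
    ∃ t : TPt M B, ∀ i, t (Multiplicative.ofAdd (e i)) = f i := by
  let φ : M →ₗ[ℤ] Additive Bˣ := e.constr ℤ (fun i => Additive.ofMul (f i))
  refine ⟨AddMonoidHom.toMultiplicativeLeft φ.toAddMonoidHom, fun i => ?_⟩
  change (φ (e i)).toMul = f i
  rw [Module.Basis.constr_basis]
  rfl

lemma TPt_ext {B : Type u} [CommRing B] {ι : Type} (e : Module.Basis ι ℤ M) {s t : TPt M B}
    (h : ∀ i, s (Multiplicative.ofAdd (e i)) = t (Multiplicative.ofAdd (e i))) : s = t := by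
  have h1 : (MonoidHom.toAdditiveRight s).toIntLinearMap = (MonoidHom.toAdditiveRight t).toIntLinearMap :=
    e.ext (fun i => congrArg Additive.ofMul (h i))
  apply MonoidHom.ext
  intro m
  have h2 := LinearMap.congr_fun h1 m.toAdd
  exact congrArg Additive.toMul h2

variable [Algebra R V] [Algebra R K] [IsScalarTower R V K]
  [Algebra R K₁] [IsScalarTower R K K₁] [IsScalarTower R (GV V σ) K₁]

/-- `T(K₁) = T(K) T(GV)` -/
lemma exists_torus_factor (t : TPt M K₁) : ∃ (s : TPt M K) (v : TPt M (GV V σ)),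
    t = TPt.map (IsScalarTower.toAlgHom R K K₁) s * TPt.map (IsScalarTower.toAlgHom R (GV V σ) K₁) v := by
  let e := Module.Free.chooseBasis ℤ M
  choose c v hcv using fun i => exists_unit_factor (V := V) (σ := σ) (K := K) (K₁ := K₁)
    (t (Multiplicative.ofAdd (e i)))
  obtain ⟨s, hs⟩ := exists_TPt e c
  obtain ⟨w, hw⟩ := exists_TPt e v
  refine ⟨s, w, TPt_ext e fun i => ?_⟩
  apply Units.ext
  rw [hcv]
  change _ = algebraMap K K₁ (s (Multiplicative.ofAdd (e i)) : K) *
    algebraMap (GV V σ) K₁ (w (Multiplicative.ofAdd (e i)) : GV V σ)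
  rw [hs, hw]

end torus

section decomp

variable {V : Type u} [CommRing V] [IsDomain V] [ValuationRing V]
  [Infinite (IsLocalRing.ResidueField V)]
  {K K₁ : Type u} [Field K] [Algebra V K] [IsFractionRing V K] [Field K₁]
  [Algebra (GV V idx) K₁] [IsFractionRing (GV V idx) K₁] [Algebra K K₁] [Algebra V K₁]
  [IsScalarTower V (GV V idx) K₁] [IsScalarTower V K K₁]
  [Algebra R V] [Algebra R K] [IsScalarTower R V K]
  [Algebra R K₁] [IsScalarTower R K K₁] [IsScalarTower R (GV V idx) K₁]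

lemma infinite_range_residue_GV : (Set.range fun v : V =>
    IsLocalRing.residue (GV V idx) (IsScalarTower.toAlgHom R V (GV V idx) v)).Infinite := by
  let f : V →+* IsLocalRing.ResidueField (GV V idx) :=
    (IsLocalRing.residue (GV V idx)).comp (algebraMap V (GV V idx))
  have hker : ∀ x ∈ IsLocalRing.maximalIdeal V, f x = 0 := by
    intro x hx
    change IsLocalRing.residue (GV V idx) (algebraMap V (GV V idx) x) = 0
    rw [IsLocalRing.residue_eq_zero_iff]
    have : algebraMap V (GV V idx) x = algebraMap (MvPolynomial idx V) (GV V idx) (C x) := rfl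
    rw [this, IsLocalization.AtPrime.to_map_mem_maximal_iff (GV V idx) (gp V idx), mem_gp, map_C,
      (IsLocalRing.residue_eq_zero_iff x).2 hx, C_0]
  let g : IsLocalRing.ResidueField V →+* IsLocalRing.ResidueField (GV V idx) :=
    Ideal.Quotient.lift _ f hker
  have h1 : (Set.range g).Infinite := Set.infinite_range_of_injective g.injective
  refine h1.mono ?_
  rintro _ ⟨x, rfl⟩
  obtain ⟨v, rfl⟩ := IsLocalRing.residue_surjective x
  exact ⟨v, rfl⟩

lemma infinite_of_residue (V : Type u) [CommRing V] [IsLocalRing V]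
    [Infinite (IsLocalRing.ResidueField V)] : Infinite V :=
  Infinite.of_surjective _ (IsLocalRing.residue_surjective (R := V))

/-- the generic point of `U⁺` -/
noncomputable def kap (E : PinCell P b R A) (V : Type u) [CommRing V] [IsDomain V] [ValuationRing V]
    [Algebra R V] : Pt R A (GV V idx) :=
  Word.posP E (fun a => algebraMap (MvPolynomial idx V) (GV V idx) (X a))

/-- the decomposition over the Gauss valuation ring -/
theorem exists_gauss_decomp (h : Opp E E') (g : Pt R A K) :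
    ∃ (w₁ w₂ w₃ : Pt R A (GV V idx)) (t : TPt M K),
      Pt.map (IsScalarTower.toAlgHom R (GV V idx) K₁) (kap E V) *
        Pt.map (IsScalarTower.toAlgHom R K K₁) g *
        Pt.map (IsScalarTower.toAlgHom R (GV V idx) K₁) w₃ =
      Pt.map (IsScalarTower.toAlgHom R (GV V idx) K₁) w₁ *
        Pt.map (IsScalarTower.toAlgHom R K K₁) (E.i K t) *
        Pt.map (IsScalarTower.toAlgHom R (GV V idx) K₁) w₂ := by
  classical
  let G := GV V idx
  let φ : G →ₐ[R] K₁ := IsScalarTower.toAlgHom R G K₁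
  let ψ : K →ₐ[R] K₁ := IsScalarTower.toAlgHom R K K₁
  let ι : V →ₐ[R] G := IsScalarTower.toAlgHom R V G
  have hι : ψ.comp (inc R V K) = φ.comp ι := by
    apply AlgHom.ext
    intro v
    change algebraMap K K₁ (algebraMap V K v) = algebraMap G K₁ (algebraMap V G v)
    rw [← IsScalarTower.algebraMap_apply, ← IsScalarTower.algebraMap_apply]
  have hV : Infinite V := infinite_of_residue V
  have hK : Infinite K := Infinite.of_injective _ (IsFractionRing.injective V K)
  have hK₁ : Infinite K₁ := Infinite.of_injective _ (algebraMap K K₁).injective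
  -- Iwasawa for the opposite group
  have hcl : (Pt.map φ (kap E V) * Pt.map ψ g)⁻¹ ∈ Subgroup.closure (gens E' K₁) := by
    rw [CellGen.closure_gens_eq_top]; exact Subgroup.mem_top _
  obtain ⟨k', q', hq', hkq⟩ := iwasawa_of_closure (V := G) E' hcl
  obtain ⟨y, x'', t'', hy⟩ := exists_posP_mul_inCell_of E' ι infinite_range_residue_GV k'
  obtain ⟨y', hy'⟩ := h.negP x''
  -- `w₃`
  let u₂ : Pt R A V := (Word.posP E' y)⁻¹
  let w₃ : Pt R A G := Pt.map ι u₂
  -- first form
  have h1 : ∃ (α : idx → K₁) (τ : TPt M K₁) (β : idx → G), Pt.map φ (kap E V) * Pt.map ψ g * Pt.map φ w₃ =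
      Word.negP E α * E.i K₁ τ * Pt.map φ (Word.posP E β) := by
    have h2 : Pt.map φ (kap E V) * Pt.map ψ g * Pt.map φ w₃ =
        (Pt.map φ (Pt.map ι (Word.posP E' y) * k') * q')⁻¹ := by
      have hkq' : (Pt.map φ (kap E V) * Pt.map ψ g)⁻¹ = Pt.map φ k' * q' := hkq
      have h3 : (Pt.map φ (kap E V) * Pt.map ψ g) = (Pt.map φ k' * q')⁻¹ := by
        rw [← hkq', inv_inv]
      rw [h3, Pt.map_mul]
      change _ * Pt.map φ (Pt.map ι (Word.posP E' y)⁻¹) = _
      rw [Pt.map_inv, Pt.map_inv]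
      group
    rw [h2, hy, cell_eq_mul, hy', mul_assoc, Pt.map_mul, mul_assoc, mul_inv_rev, ← Pt.map_inv]
    have h4 : (Pt.map φ (Word.posP E' x'' * E'.i G t'') * q')⁻¹ ∈ bor E' K₁ := by
      apply (bor E' K₁).inv_mem
      apply (bor E' K₁).mul_mem _ hq'
      rw [Pt.map_mul, map_posP, E'.i_nat]
      exact ⟨_, ⟨_, rfl⟩, _, rfl⟩
    obtain ⟨x, t, h5⟩ := (mem_bor E').1 h4
    obtain ⟨α, hα⟩ := h.posP x
    obtain ⟨β, hβ⟩ := exists_posP_inv E y'
    refine ⟨α, t, β, ?_⟩
    rw [h5, hα, h.i, hβ]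
  -- second form
  have hcl2 : g * Pt.map (inc R V K) u₂ ∈ Subgroup.closure (gens E K) := by
    rw [CellGen.closure_gens_eq_top]; exact Subgroup.mem_top _
  obtain ⟨k₀, q, hq, hkq2⟩ := iwasawa_of_closure (V := V) E hcl2
  obtain ⟨γ, tγ, hγ⟩ := generic_inCell E k₀
  have hγ' : kap E V * Pt.map ι k₀ = E.cell γ tγ := hγ
  have h2 : ∃ (δ : idx → K₁) (τ' : TPt M K₁), Pt.map φ (kap E V) * Pt.map ψ g * Pt.map φ w₃ =
      Pt.map φ (Word.negP E γ) * (Word.posP E δ * E.i K₁ τ') := by
    have h3 : Pt.map φ (kap E V) * Pt.map ψ g * Pt.map φ w₃ =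
        Pt.map φ (kap E V * Pt.map ι k₀) * Pt.map ψ q := by
      have h4 : Pt.map φ w₃ = Pt.map ψ (Pt.map (inc R V K) u₂) := by
        change Pt.map (φ.comp ι) u₂ = Pt.map (ψ.comp (inc R V K)) u₂
        rw [hι]
      have h5 : Pt.map φ (Pt.map ι k₀) = Pt.map ψ (Pt.map (inc R V K) k₀) := by
        change Pt.map (φ.comp ι) k₀ = Pt.map (ψ.comp (inc R V K)) k₀
        rw [hι]
      rw [h4, mul_assoc, ← Pt.map_mul, hkq2, Pt.map_mul, Pt.map_mul, h5, mul_assoc]
    obtain ⟨x, t, rfl⟩ := (mem_bor E).1 hq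
    rw [h3, hγ', cell_eq_mul, Pt.map_mul, Pt.map_mul, mul_assoc, mul_assoc]
    have h6 : Pt.map φ (Word.posP E γ) * (Pt.map φ (E.i G tγ) * Pt.map ψ (Word.posP E x * E.i K t)) ∈
        bor E K₁ := by
      rw [Pt.map_mul, map_posP, map_posP, E.i_nat, E.i_nat]
      exact (bor E K₁).mul_mem (Upos_le_bor E ⟨_, rfl⟩) ((bor E K₁).mul_mem (i_mem_bor E _)
        ((bor E K₁).mul_mem (Upos_le_bor E ⟨_, rfl⟩) (i_mem_bor E _)))
    obtain ⟨δ, τ', h7⟩ := (mem_bor E).1 h6
    exact ⟨δ, τ', by rw [h7]⟩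
  -- comparison
  obtain ⟨α, τ, β, h1⟩ := h1
  obtain ⟨δ, τ', h2⟩ := h2
  have h3 : Pt.map φ (kap E V) * Pt.map ψ g * Pt.map φ w₃ =
      Pt.map φ (Word.negP E γ) * E.i K₁ τ * Pt.map φ (Word.posP E β) := by
    have e1 := h1
    rw [map_posP, norm_eq_cell] at e1
    have e2 := h2
    rw [map_negP, ← mul_assoc] at e2
    have e3 : Word.negP E (fun a => φ (γ a)) * Word.posP E δ * E.i K₁ τ' =
        E.cell (glue b (fun a => φ (γ a)) δ) τ' := by
      rw [cell_eq_mul, negP_glue, posP_glue]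
    rw [e3, e1] at e2
    obtain ⟨e4, -⟩ := E.cell_injective e2
    rw [h1]
    congr 2
    rw [map_negP, ← negP_glue E α (fun a => TPt.ch (P.root a) τ * φ (β a)), e4, negP_glue]
  obtain ⟨s, v, rfl⟩ := exists_torus_factor (R := R) (V := V) (σ := idx) (K := K) τ
  refine ⟨Word.negP E γ, E.i G v * Word.posP E β, w₃, s, ?_⟩
  refine h3.trans ?_
  rw [map_mul, Pt.map_mul, E.i_nat, E.i_nat]
  simp only [mul_assoc]
  rfl

end decomp

section spec

variable {V : Type u} [CommRing V] [IsDomain V] [ValuationRing V]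
  [Infinite (IsLocalRing.ResidueField V)] {σ : Type}
  {K K₁ : Type u} [Field K] [Algebra V K] [IsFractionRing V K] [Field K₁]
  [Algebra (GV V σ) K₁] [IsFractionRing (GV V σ) K₁] [Algebra K K₁] [Algebra V K₁]
  [IsScalarTower V (GV V σ) K₁] [IsScalarTower V K K₁]
  [Algebra R V] [Algebra R K] [IsScalarTower R V K]
  [Algebra R K₁] [IsScalarTower R K K₁] [IsScalarTower R (GV V σ) K₁]

/-- lifting a point along an injective homomorphism containing the values -/
lemma exists_lift {B C : Type u} [CommRing B] [Algebra R B] [CommRing C] [Algebra R C] (j : B →ₐ[R] C)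
    (hj : Function.Injective j) (s : Finset A) (hs : Algebra.adjoin R (s : Set A) = ⊤) (w : Pt R A C)
    (hw : ∀ a ∈ s, ∃ x, j x = w.hom a) : ∃ w' : Pt R A B, Pt.map j w' = w := by
  have h1 : w.hom.range ≤ j.range := by
    rw [← Algebra.map_top, ← hs, AlgHom.map_adjoin, Algebra.adjoin_le_iff]
    rintro _ ⟨a, ha, rfl⟩
    obtain ⟨x, hx⟩ := hw a ha
    exact ⟨x, hx⟩
  let e : B ≃ₐ[R] j.range := AlgEquiv.ofInjective j hj
  refine ⟨Pt.mk (e.symm.toAlgHom.comp (w.hom.codRestrict j.range fun a => h1 ⟨a, rfl⟩)), ?_⟩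
  apply Pt.ext
  intro a
  change j (e.symm ⟨w.hom a, _⟩) = w.hom a
  have h2 := e.apply_symm_apply ⟨w.hom a, h1 ⟨a, rfl⟩⟩
  exact congrArg Subtype.val h2

/-- specialisation of a relation -/
theorem exists_spec_pts [Algebra.FiniteType R A] (w₀ w₁ w₂ w₃ : Pt R A (GV V σ)) (g t : Pt R A K)
    (h : Pt.map (IsScalarTower.toAlgHom R (GV V σ) K₁) w₀ *
        Pt.map (IsScalarTower.toAlgHom R K K₁) g *
        Pt.map (IsScalarTower.toAlgHom R (GV V σ) K₁) w₃ =
      Pt.map (IsScalarTower.toAlgHom R (GV V σ) K₁) w₁ *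
        Pt.map (IsScalarTower.toAlgHom R K K₁) t *
        Pt.map (IsScalarTower.toAlgHom R (GV V σ) K₁) w₂) :
    ∃ v₀ v₁ v₂ v₃ : Pt R A V, Pt.map (inc R V K) v₀ * g * Pt.map (inc R V K) v₃ =
      Pt.map (inc R V K) v₁ * t * Pt.map (inc R V K) v₂ := by
  classical
  obtain ⟨s, hs⟩ := (‹Algebra.FiniteType R A›).out
  let Z : Finset (GV V σ) := s.image w₀.hom ∪ s.image w₁.hom ∪ s.image w₂.hom ∪ s.image w₃.hom
  obtain ⟨a, W, W', iW, iW', aW, aW', x, j, e, θ, κ, j', e', hj, hj', hZ, -, -, hθ, hκ, heθ, heκ⟩ :=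
    exists_spec (K := K) (K₁ := K₁) Z
  let _ : Algebra R W := ((algebraMap V W).comp (algebraMap R V)).toAlgebra
  let _ : Algebra R W' := ((algebraMap V W').comp (algebraMap R V)).toAlgebra
  have : IsScalarTower R V W := IsScalarTower.of_algebraMap_eq' rfl
  have : IsScalarTower R V W' := IsScalarTower.of_algebraMap_eq' rfl
  have : IsScalarTower R V K₁ := IsScalarTower.of_algebraMap_eq' (by
    rw [IsScalarTower.algebraMap_eq R K K₁, IsScalarTower.algebraMap_eq R V K,
      IsScalarTower.algebraMap_eq V K K₁, RingHom.comp_assoc])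
  have hlift : ∀ w : Pt R A (GV V σ), (∀ y ∈ s, w.hom y ∈ Z) →
      ∃ w' : Pt R A W, Pt.map (j.restrictScalars R) w' = w := fun w hw =>
    exists_lift (j.restrictScalars R) hj s hs w (fun y hy => hZ _ (hw y hy))
  have hZ₀ : ∀ y ∈ s, w₀.hom y ∈ Z := fun y hy => Finset.mem_union_left _ (Finset.mem_union_left _
    (Finset.mem_union_left _ (Finset.mem_image_of_mem _ hy)))
  have hZ₁ : ∀ y ∈ s, w₁.hom y ∈ Z := fun y hy => Finset.mem_union_left _ (Finset.mem_union_left _
    (Finset.mem_union_right _ (Finset.mem_image_of_mem _ hy)))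
  have hZ₂ : ∀ y ∈ s, w₂.hom y ∈ Z := fun y hy => Finset.mem_union_left _
    (Finset.mem_union_right _ (Finset.mem_image_of_mem _ hy))
  have hZ₃ : ∀ y ∈ s, w₃.hom y ∈ Z := fun y hy => 
    (Finset.mem_union_right _ (Finset.mem_image_of_mem _ hy))
  obtain ⟨w₀', hw₀⟩ := hlift w₀ hZ₀
  obtain ⟨w₁', hw₁⟩ := hlift w₁ hZ₁
  obtain ⟨w₂', hw₂⟩ := hlift w₂ hZ₂
  obtain ⟨w₃', hw₃⟩ := hlift w₃ hZ₃
  have c1 : (j'.restrictScalars R).comp (θ.restrictScalars R) =
      (IsScalarTower.toAlgHom R (GV V σ) K₁).comp (j.restrictScalars R) := AlgHom.ext hθ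
  have c2 : (j'.restrictScalars R).comp (κ.restrictScalars R) = IsScalarTower.toAlgHom R K K₁ :=
    AlgHom.ext hκ
  have c3 : (e'.restrictScalars R).comp (θ.restrictScalars R) = (inc R V K).comp (e.restrictScalars R) :=
    AlgHom.ext heθ
  have c4 : (e'.restrictScalars R).comp (κ.restrictScalars R) = AlgHom.id R K := AlgHom.ext heκ
  have d1 : ∀ w' : Pt R A W, Pt.map (IsScalarTower.toAlgHom R (GV V σ) K₁)
      (Pt.map (j.restrictScalars R) w') =
      Pt.map (j'.restrictScalars R) (Pt.map (θ.restrictScalars R) w') := fun w' => by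
    rw [Pt.map_map, Pt.map_map, c1]
  have d2 : ∀ z : Pt R A K, Pt.map (IsScalarTower.toAlgHom R K K₁) z =
      Pt.map (j'.restrictScalars R) (Pt.map (κ.restrictScalars R) z) := fun z => by
    rw [Pt.map_map, c2]
  have d3 : ∀ w' : Pt R A W, Pt.map (e'.restrictScalars R) (Pt.map (θ.restrictScalars R) w') =
      Pt.map (inc R V K) (Pt.map (e.restrictScalars R) w') := fun w' => by
    rw [Pt.map_map, Pt.map_map, c3]
  have d4 : ∀ z : Pt R A K, Pt.map (e'.restrictScalars R) (Pt.map (κ.restrictScalars R) z) = z :=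
    fun z => by rw [Pt.map_map, c4, Pt.map_id]
  rw [← hw₀, ← hw₁, ← hw₂, ← hw₃, d1, d1, d1, d1, d2, d2, ← Pt.map_mul, ← Pt.map_mul, ← Pt.map_mul,
    ← Pt.map_mul] at h
  have h2 := Pt.map_injective (φ := j'.restrictScalars R) hj' h
  have h3 := congrArg (Pt.map (e'.restrictScalars R)) h2
  rw [Pt.map_mul, Pt.map_mul, Pt.map_mul, Pt.map_mul, d3, d3, d3, d3, d4, d4] at h3
  exact ⟨_, _, _, _, h3⟩

end spec

section main

variable {V : Type u} [CommRing V] [IsDomain V] [ValuationRing V]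
  [Infinite (IsLocalRing.ResidueField V)]
  {K : Type u} [Field K] [Algebra V K] [IsFractionRing V K]
  [Algebra R V] [Algebra R K] [IsScalarTower R V K]

/-- **Cartan decomposition** `G(K) = G(V) T(K) G(V)`. -/
theorem cartan (h : Opp E E') (g : Pt R A K) :
    ∃ (k₁ k₂ : Pt R A V) (t : TPt M K),
      g = Pt.map (inc R V K) k₁ * E.i K t * Pt.map (inc R V K) k₂ := by
  let K₁ := FractionRing (GV V idx)
  let f : K →+* K₁ := IsFractionRing.lift (A := V) (K := K)
    (g := (algebraMap (GV V idx) K₁).comp (algebraMap V (GV V idx))) (by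
      rw [RingHom.coe_comp]
      refine (IsFractionRing.injective (GV V idx) K₁).comp ?_
      have : (algebraMap V (GV V idx)) = (algebraMap (MvPolynomial idx V) (GV V idx)).comp C := rfl
      rw [this, RingHom.coe_comp]
      exact algebraMap_GV_injective.comp (MvPolynomial.C_injective _ _))
  have hf : ∀ v, f (algebraMap V K v) = algebraMap (GV V idx) K₁ (algebraMap V (GV V idx) v) := fun v =>
    IsFractionRing.lift_algebraMap _ v
  let _ : Algebra K K₁ := f.toAlgebra
  have : IsScalarTower V K K₁ := IsScalarTower.of_algebraMap_eq (fun v => by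
    change _ = f (algebraMap V K v)
    rw [hf, ← IsScalarTower.algebraMap_apply])
  have : IsScalarTower R K K₁ := IsScalarTower.of_algebraMap_eq (fun v => by
    change _ = f (algebraMap R K v)
    rw [IsScalarTower.algebraMap_apply R V K, hf, ← IsScalarTower.algebraMap_apply,
      ← IsScalarTower.algebraMap_apply])
  have := E.fp
  have : Algebra.FiniteType R A := inferInstance
  obtain ⟨w₁, w₂, w₃, t, h1⟩ := exists_gauss_decomp (V := V) (K₁ := K₁) h g
  obtain ⟨v₀, v₁, v₂, v₃, h2⟩ := exists_spec_pts (K₁ := K₁) _ w₁ w₂ w₃ g (E.i K t) h1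
  refine ⟨v₀⁻¹ * v₁, v₂ * v₃⁻¹, t, ?_⟩
  rw [Pt.map_mul, Pt.map_mul, Pt.map_inv, Pt.map_inv]
  have h3 : g = (Pt.map (inc R V K) v₀)⁻¹ * (Pt.map (inc R V K) v₀ * g * Pt.map (inc R V K) v₃) *
      (Pt.map (inc R V K) v₃)⁻¹ := by group
  rw [h3, h2]
  simp only [mul_assoc]

end main

end K209.Cartan
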