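import Mathlib.RingTheory.Valuation.ValuationRing
import Mathlib.RingTheory.Localization.AtPrime.Basic
import Mathlib.RingTheory.Localization.Away.Basic
import Mathlib.Algebra.MvPolynomial.Funext
import Mathlib.Algebra.MvPolynomial.Equiv
import Mathlib.RingTheory.MvPolynomial.Basic
import Mathlib.RingTheory.LocalRing.ResidueField.Basic
import Mathlib.RingTheory.Polynomial.Basic

/-!
# The Gauss valuation ring of a polynomial ring over a valuation ring, and specialisation

`V` a valuation ring, `σ` a finite type.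
* `gp V σ` : the prime ideal `m · V[σ]`;
* `instance : ValuationRing (GV V σ)` with `GV V σ = V[σ]_(mV[σ])`;
* `exists_unit_factor` : every non-zero element of the fraction field of `GV V σ` is `c · v`, `c ∈ K`,
  `v ∈ GV` a unit;
* `exists_spec` : for finitely many elements of `GV V σ` (infinite residue field) there is a point
  `a ∈ V^σ` at which all of them are regular.
-/

set_option autoImplicit false
universe u

namespace K209.Gauss

open MvPolynomial IsLocalRing

variable (V : Type u) [CommRing V] [IsDomain V] [ValuationRing V] (σ : Type)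

/-- the prime ideal `m V[σ]`, as the kernel of the reduction -/
noncomputable def gp : Ideal (MvPolynomial σ V) :=
  RingHom.ker (MvPolynomial.map (residue V) : MvPolynomial σ V →+* MvPolynomial σ (ResidueField V))

instance : (gp V σ).IsPrime := RingHom.ker_isPrime _

variable {V σ}

lemma mem_gp {p : MvPolynomial σ V} : p ∈ gp V σ ↔ MvPolynomial.map (residue V) p = 0 := Iff.rfl

lemma exists_dvd_all {s : Finset V} (hs : s.Nonempty) : ∃ c ∈ s, ∀ d ∈ s, c ∣ d := by
  classical
  induction hs using Finset.Nonempty.cons_induction with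
  | singleton a => exact ⟨a, Finset.mem_singleton_self a, fun d hd => by rw [Finset.mem_singleton.1 hd]⟩
  | cons a s ha hs ih =>
    obtain ⟨c, hc, h⟩ := ih
    rcases ValuationRing.dvd_total a c with h1 | h1
    · refine ⟨a, Finset.mem_cons_self a s, fun d hd => ?_⟩
      rcases Finset.mem_cons.1 hd with rfl | hd
      · exact dvd_rfl
      · exact h1.trans (h d hd)
    · refine ⟨c, Finset.mem_cons_of_mem hc, fun d hd => ?_⟩
      rcases Finset.mem_cons.1 hd with rfl | hd
      · exact h1
      · exact h d hd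

/-- Gauss content -/
lemma exists_content {p : MvPolynomial σ V} (hp : p ≠ 0) :
    ∃ c : V, c ≠ 0 ∧ ∃ p₀ : MvPolynomial σ V, p₀ ∉ gp V σ ∧ p = C c * p₀ := by
  classical
  have hs : (p.support.image fun m => coeff m p).Nonempty := by
    rw [Finset.image_nonempty]
    exact MvPolynomial.support_nonempty.2 hp
  obtain ⟨c, hc, h⟩ := exists_dvd_all hs
  obtain ⟨m, hm, rfl⟩ := Finset.mem_image.1 hc
  have hc0 : coeff m p ≠ 0 := MvPolynomial.mem_support_iff.1 hm
  have hd : C (coeff m p) ∣ p := by
    rw [MvPolynomial.C_dvd_iff_dvd_coeff]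
    intro n
    by_cases hn : coeff n p = 0
    · rw [hn]; exact dvd_zero _
    · exact h _ (Finset.mem_image.2 ⟨n, MvPolynomial.mem_support_iff.2 hn, rfl⟩)
  obtain ⟨p₀, hp₀⟩ := hd
  refine ⟨_, hc0, p₀, ?_, hp₀⟩
  intro h0
  have h1 : coeff m p₀ = 1 := by
    have h2 := congrArg (coeff m) hp₀
    rw [coeff_C_mul] at h2
    exact mul_left_cancel₀ hc0 (by rw [← h2, mul_one])
  have h2 := congrArg (coeff m) (mem_gp.1 h0)
  rw [coeff_map, h1, map_one, coeff_zero] at h2
  exact one_ne_zero h2

variable (V σ)

/-- the Gauss valuation ring -/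
abbrev GV : Type u := Localization.AtPrime (gp V σ)

variable {V σ}

instance : IsDomain (GV V σ) := IsLocalization.isDomain_localization
  (Ideal.primeCompl_le_nonZeroDivisors (gp V σ))

lemma algebraMap_GV_injective : Function.Injective (algebraMap (MvPolynomial σ V) (GV V σ)) :=
  IsLocalization.injective _ (Ideal.primeCompl_le_nonZeroDivisors (gp V σ))

/-- every non-zero element of the Gauss ring is a constant times a unit -/
lemma exists_eq_unit_mul {z : GV V σ} (hz : z ≠ 0) :
    ∃ (c : V) (v : (GV V σ)ˣ), c ≠ 0 ∧ z = algebraMap V (GV V σ) c * v := by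
  obtain ⟨⟨p, s⟩, hps⟩ := IsLocalization.surj (gp V σ).primeCompl z
  have hp : p ≠ 0 := by
    rintro rfl
    rw [map_zero] at hps
    have hs : algebraMap (MvPolynomial σ V) (GV V σ) (s : MvPolynomial σ V) ≠ 0 :=
      (IsLocalization.map_units (GV V σ) s).ne_zero
    exact hz ((mul_eq_zero.1 hps).resolve_right hs)
  obtain ⟨c, hc, p₀, hp₀, rfl⟩ := exists_content hp
  obtain ⟨v, hv⟩ := IsLocalization.map_units (GV V σ) (⟨p₀, hp₀⟩ : (gp V σ).primeCompl)
  obtain ⟨w, hw⟩ := IsLocalization.map_units (GV V σ) s
  refine ⟨c, v * w⁻¹, hc, ?_⟩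
  have h1 : z * w = algebraMap V (GV V σ) c * v := by
    rw [hw, hv]
    rw [hps, map_mul]
    rfl
  rw [Units.val_mul, ← mul_assoc, ← h1, mul_assoc, Units.mul_inv, mul_one]

instance : ValuationRing (GV V σ) := by
  rw [ValuationRing.iff_dvd_total]
  refine ⟨fun x y => ?_⟩
  by_cases hx : x = 0
  · subst hx; exact Or.inr (dvd_zero _)
  by_cases hy : y = 0
  · subst hy; exact Or.inl (dvd_zero _)
  obtain ⟨c, v, hc, rfl⟩ := exists_eq_unit_mul hx
  obtain ⟨d, w, hd, rfl⟩ := exists_eq_unit_mul hy
  rcases ValuationRing.dvd_total c d with h | h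
  · left
    rw [Units.dvd_mul_right, Units.mul_right_dvd]
    exact map_dvd _ h
  · right
    rw [Units.dvd_mul_right, Units.mul_right_dvd]
    exact map_dvd _ h

lemma inj_of {R S T : Type u} [CommRing R] [CommRing S] [Algebra R S] [CommRing T] (M : Submonoid R)
    [IsLocalization M S] {f : S →+* T} (hf : ∀ x y, f (algebraMap R S x) = f (algebraMap R S y) → x = y) :
    Function.Injective f := by
  rw [IsLocalization.injective_iff_map_algebraMap_eq M]
  exact fun x y => ⟨fun h => by rw [h], fun h => by rw [hf x y h]⟩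

section Frac

variable {K K₁ : Type u} [Field K] [Algebra V K] [IsFractionRing V K] [Field K₁]
  [Algebra (GV V σ) K₁] [IsFractionRing (GV V σ) K₁] [Algebra K K₁] [Algebra V K₁]
  [IsScalarTower V (GV V σ) K₁] [IsScalarTower V K K₁]

include V σ in
/-- units of the fraction field of the Gauss ring are constants times units of the Gauss ring -/
lemma exists_unit_factor (z : K₁ˣ) : ∃ (c : Kˣ) (v : (GV V σ)ˣ),
    (z : K₁) = algebraMap K K₁ c * algebraMap (GV V σ) K₁ v := by
  obtain ⟨x, y, hy, hxy⟩ := IsFractionRing.div_surjective (A := GV V σ) (z : K₁)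
  have hy0 : y ≠ 0 := nonZeroDivisors.ne_zero hy
  have hx0 : x ≠ 0 := by
    rintro rfl
    rw [map_zero, zero_div] at hxy
    exact z.ne_zero hxy.symm
  obtain ⟨c, v, hc, rfl⟩ := exists_eq_unit_mul hx0
  obtain ⟨d, w, hd, rfl⟩ := exists_eq_unit_mul hy0
  have hc' : algebraMap V K c ≠ 0 := by
    rwa [Ne, (IsFractionRing.injective V K).eq_iff' (map_zero _)]
  have hd' : algebraMap V K d ≠ 0 := by
    rwa [Ne, (IsFractionRing.injective V K).eq_iff' (map_zero _)]
  refine ⟨Units.mk0 _ hc' * (Units.mk0 _ hd')⁻¹, v * w⁻¹, ?_⟩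
  rw [← hxy, map_mul, map_mul, Units.val_mul, Units.val_inv_eq_inv_val, Units.val_mk0, Units.val_mk0,
    Units.val_mul, map_mul, map_mul, map_inv₀]
  have hinv : algebraMap (GV V σ) K₁ ((w⁻¹ : (GV V σ)ˣ) : GV V σ) =
      (algebraMap (GV V σ) K₁ (w : GV V σ))⁻¹ := by
    apply eq_inv_of_mul_eq_one_left
    rw [← map_mul, Units.inv_mul, map_one]
  rw [hinv, ← IsScalarTower.algebraMap_apply V (GV V σ) K₁, ← IsScalarTower.algebraMap_apply V K K₁,
    ← IsScalarTower.algebraMap_apply V (GV V σ) K₁, ← IsScalarTower.algebraMap_apply V K K₁]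
  rw [mul_div_mul_comm, div_eq_mul_inv, div_eq_mul_inv]

end Frac

section Spec

variable [Infinite (ResidueField V)]

/-- a polynomial outside `m V[σ]` takes a unit value at some point of `V^σ` -/
lemma exists_point {p : MvPolynomial σ V} (hp : p ∉ gp V σ) : ∃ a : σ → V, IsUnit (eval a p) := by
  by_contra h
  push Not at h
  apply hp
  rw [mem_gp]
  apply MvPolynomial.funext
  intro x
  choose a ha using fun i => residue_surjective (x i)
  have h1 := h a
  rw [← mem_nonunits_iff, ← mem_maximalIdeal, ← residue_eq_zero_iff] at h1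
  rw [map_zero, ← h1]
  have h2 : x = fun i => residue V (a i) := funext fun i => (ha i).symm
  rw [h2, MvPolynomial.eval_map]
  exact (MvPolynomial.eval₂_comp_left (residue V) (RingHom.id V) a p).symm

section

variable {K K₁ : Type u} [Field K] [Algebra V K] [IsFractionRing V K] [Field K₁]
  [Algebra (GV V σ) K₁] [IsFractionRing (GV V σ) K₁] [Algebra K K₁] [Algebra V K₁]
  [IsScalarTower V (GV V σ) K₁] [IsScalarTower V K K₁]

/-- **Specialisation**: finitely many elements of the Gauss valuation ring are regular at a point of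
`V^σ`, compatibly with the fraction fields. -/
theorem exists_spec (Z : Finset (GV V σ)) :
    ∃ (a : σ → V) (W W' : Type u) (_ : CommRing W) (_ : CommRing W') (_ : Algebra V W)
      (_ : Algebra V W') (x : σ → W) (j : W →ₐ[V] GV V σ) (e : W →ₐ[V] V) (θ : W →ₐ[V] W')
      (κ : K →ₐ[V] W') (j' : W' →ₐ[V] K₁) (e' : W' →ₐ[V] K),
      Function.Injective j ∧ Function.Injective j' ∧
      (∀ z ∈ Z, ∃ w, j w = z) ∧
      (∀ i, j (x i) = algebraMap (MvPolynomial σ V) (GV V σ) (X i)) ∧ (∀ i, e (x i) = a i) ∧
      (∀ w, j' (θ w) = algebraMap (GV V σ) K₁ (j w)) ∧ (∀ c, j' (κ c) = algebraMap K K₁ c) ∧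
      (∀ w, e' (θ w) = algebraMap V K (e w)) ∧ (∀ c, e' (κ c) = c) := by
  classical
  choose num den hz using fun z : GV V σ => IsLocalization.exists_mk'_eq (gp V σ).primeCompl z
  let s : MvPolynomial σ V := ∏ z ∈ Z, (den z : MvPolynomial σ V)
  have hs : s ∉ gp V σ := by
    intro h
    obtain ⟨z, -, hz⟩ := (Ideal.IsPrime.prod_mem_iff (p := gp V σ)).1 h
    exact (den z).2 hz
  obtain ⟨a, ha⟩ := exists_point hs
  have hs0 : s ≠ 0 := by rintro h; exact hs (h ▸ (gp V σ).zero_mem)
  let W := Localization.Away s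
  have hWd : IsDomain W := IsLocalization.isDomain_localization
    (powers_le_nonZeroDivisors_of_noZeroDivisors hs0)
  have hsu : IsUnit (algebraMap (MvPolynomial σ V) (GV V σ) s) :=
    IsLocalization.map_units (GV V σ) (⟨s, hs⟩ : (gp V σ).primeCompl)
  let jr : W →+* GV V σ := IsLocalization.Away.lift s hsu
  have hjr : ∀ p, jr (algebraMap (MvPolynomial σ V) W p) = algebraMap _ _ p := fun p =>
    IsLocalization.Away.lift_eq s hsu p
  let er : W →+* V := IsLocalization.Away.lift s (g := eval a) ha
  have her : ∀ p, er (algebraMap (MvPolynomial σ V) W p) = eval a p := fun p =>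
    IsLocalization.Away.lift_eq s ha p
  have hVW : ∀ v : V, algebraMap V W v = algebraMap (MvPolynomial σ V) W (C v) := fun v => rfl
  have hVG : ∀ v : V, algebraMap V (GV V σ) v = algebraMap (MvPolynomial σ V) (GV V σ) (C v) :=
    fun v => rfl
  let j : W →ₐ[V] GV V σ := { jr with
    commutes' := fun v => by
      change jr (algebraMap V W v) = _
      rw [hVW, hjr, hVG] }
  let e : W →ₐ[V] V := { er with
    commutes' := fun v => by
      change er (algebraMap V W v) = _
      rw [hVW, her, eval_C]
      rfl }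
  have hjinj : Function.Injective j := by
    change Function.Injective jr
    apply inj_of (Submonoid.powers s)
    intro p q hpq
    rw [hjr, hjr] at hpq
    exact algebraMap_GV_injective hpq
  have hVWinj : Function.Injective (algebraMap V W) := by
    intro v w hvw
    have h1 := congrArg e hvw
    rwa [e.commutes, e.commutes] at h1
  -- the generic fibre of `W`
  let M : Submonoid W := Algebra.algebraMapSubmonoid W (nonZeroDivisors V)
  have hM : M ≤ nonZeroDivisors W := by
    rintro _ ⟨v, hv, rfl⟩
    rw [mem_nonZeroDivisors_iff_ne_zero]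
    exact fun h => nonZeroDivisors.ne_zero hv (hVWinj (by rw [h, map_zero]))
  let W' := Localization M
  have hMK₁ : ∀ y : M, IsUnit (((algebraMap (GV V σ) K₁).comp jr) y) := by
    rintro ⟨_, v, hv, rfl⟩
    rw [isUnit_iff_ne_zero]
    change algebraMap (GV V σ) K₁ (j (algebraMap V W v)) ≠ 0
    rw [j.commutes, ← IsScalarTower.algebraMap_apply V (GV V σ) K₁, IsScalarTower.algebraMap_apply V K K₁]
    intro h
    rw [map_eq_zero] at h
    exact nonZeroDivisors.ne_zero hv ((IsFractionRing.injective V K).eq_iff' (map_zero _) |>.1 h)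
  have hMK : ∀ y : M, IsUnit (((algebraMap V K).comp er) y) := by
    rintro ⟨_, v, hv, rfl⟩
    rw [isUnit_iff_ne_zero]
    change algebraMap V K (e (algebraMap V W v)) ≠ 0
    rw [e.commutes]
    intro h
    exact nonZeroDivisors.ne_zero hv ((IsFractionRing.injective V K).eq_iff' (map_zero _) |>.1 h)
  have hMV : ∀ y : nonZeroDivisors V, IsUnit (((algebraMap W W').comp (algebraMap V W)) y) := by
    rintro ⟨v, hv⟩
    exact IsLocalization.map_units W' (⟨algebraMap V W v, v, hv, rfl⟩ : M)
  let jr' : W' →+* K₁ := IsLocalization.lift hMK₁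
  let er' : W' →+* K := IsLocalization.lift hMK
  let κr : K →+* W' := IsLocalization.lift (M := nonZeroDivisors V) hMV
  have hjr' : ∀ w, jr' (algebraMap W W' w) = algebraMap (GV V σ) K₁ (j w) := fun w =>
    IsLocalization.lift_eq hMK₁ w
  have her' : ∀ w, er' (algebraMap W W' w) = algebraMap V K (e w) := fun w =>
    IsLocalization.lift_eq hMK w
  have hκr : ∀ v, κr (algebraMap V K v) = algebraMap W W' (algebraMap V W v) := fun v =>
    IsLocalization.lift_eq hMV v
  have hVW' : ∀ v : V, algebraMap V W' v = algebraMap W W' (algebraMap V W v) := fun v => rfl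
  let θ : W →ₐ[V] W' := AlgHom.mk (algebraMap W W') (fun v => rfl)
  let κ : K →ₐ[V] W' := AlgHom.mk κr (fun v => hκr v)
  let j' : W' →ₐ[V] K₁ := AlgHom.mk jr' (fun v => by
    change jr' (algebraMap V W' v) = _
    rw [hVW', hjr', j.commutes, ← IsScalarTower.algebraMap_apply])
  let e' : W' →ₐ[V] K := AlgHom.mk er' (fun v => by
    change er' (algebraMap V W' v) = _
    rw [hVW', her', e.commutes]
    rfl)
  refine ⟨a, W, W', inferInstance, inferInstance, inferInstance, inferInstance,
    fun i => algebraMap (MvPolynomial σ V) W (X i), j, e, θ, κ, j', e',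
    hjinj, ?_, ?_, fun i => hjr _, fun i => ?_, hjr', fun c => ?_, her', fun c => ?_⟩
  · change Function.Injective jr'
    apply inj_of M
    intro x y hxy
    rw [hjr', hjr'] at hxy
    exact hjinj (IsFractionRing.injective (GV V σ) K₁ hxy)
  · intro z hz'
    have hdvd : (den z : MvPolynomial σ V) ∣ s := Finset.dvd_prod_of_mem _ hz'
    obtain ⟨q, hq⟩ := hdvd
    refine ⟨algebraMap (MvPolynomial σ V) W (num z * q) * IsLocalization.Away.invSelf s, ?_⟩
    have h1 : algebraMap (MvPolynomial σ V) (GV V σ) s * jr (IsLocalization.Away.invSelf s) = 1 := by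
      rw [← hjr, ← map_mul, IsLocalization.Away.mul_invSelf, map_one]
    change jr (_ * _) = z
    rw [map_mul, hjr]
    apply hsu.mul_right_cancel
    rw [mul_assoc, mul_comm (jr _), h1, mul_one, hq, map_mul, map_mul, ← mul_assoc]
    congr 1
    have h5 := IsLocalization.mk'_spec (GV V σ) (num z) (den z)
    rw [hz z] at h5
    exact h5.symm
  · change er (algebraMap _ _ (X i)) = a i
    rw [her, eval_X]
  · change jr' (κr c) = _
    obtain ⟨v, w, hw, rfl⟩ := IsFractionRing.div_surjective (A := V) c
    have hw0 : algebraMap V K w ≠ 0 := by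
      intro h
      exact nonZeroDivisors.ne_zero hw ((IsFractionRing.injective V K).eq_iff' (map_zero _) |>.1 h)
    have key : ∀ v, jr' (κr (algebraMap V K v)) = algebraMap K K₁ (algebraMap V K v) := fun v => by
      rw [hκr, hjr', j.commutes, ← IsScalarTower.algebraMap_apply, ← IsScalarTower.algebraMap_apply]
    have h2 : jr' (κr (algebraMap V K v / algebraMap V K w)) * jr' (κr (algebraMap V K w)) =
        jr' (κr (algebraMap V K v)) := by
      rw [← map_mul, ← map_mul, div_mul_cancel₀ _ hw0]
    rw [key, key] at h2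
    rw [map_div₀ (algebraMap K K₁), eq_div_iff (by rwa [Ne, map_eq_zero]), h2]
  · change er' (κr c) = c
    obtain ⟨v, w, hw, rfl⟩ := IsFractionRing.div_surjective (A := V) c
    have hw0 : algebraMap V K w ≠ 0 := by
      intro h
      exact nonZeroDivisors.ne_zero hw ((IsFractionRing.injective V K).eq_iff' (map_zero _) |>.1 h)
    have key : ∀ v, er' (κr (algebraMap V K v)) = algebraMap V K v := fun v => by
      rw [hκr, her', e.commutes]
      rfl
    have h2 : er' (κr (algebraMap V K v / algebraMap V K w)) * er' (κr (algebraMap V K w)) =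
        er' (κr (algebraMap V K v)) := by
      rw [← map_mul, ← map_mul, div_mul_cancel₀ _ hw0]
    rw [key, key] at h2
    rw [eq_div_iff hw0, h2]

end

end Spec

end K209.Gauss
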