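import Groth.Agent.RedSub.H660.Iwasawa
import Groth.Agent.Sga3B.WordField
import Groth.Agent.RedSub.K209.Gauss
import Mathlib.FieldTheory.IsAlgClosed.AlgebraicClosure

/-!
# Translates of the big cell over infinite fields

* `exists_ne_zero` : for a point `g` over a field `F`, the cell ideal of `posP E X * g` over `F[X]` is
  non-zero;
* `exists_posP_mul_inCell` : over a local ring with infinite residue field every point is moved into
  the big cell by an element of `U⁺`;
* `closure_gens_eq_top` : over an infinite field, the points are generated by the simple root groups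
  and the torus;
* `generic_inCell` : the generic point of `U⁺` over the Gauss valuation ring moves every point over
  `V` into the big cell.
-/

set_option autoImplicit false
set_option linter.unusedSectionVars false
universe u

namespace K209.CellGen

open Groth.Agent.Sga3B Groth.Agent.Sga3B.Cell
open Groth.Agent.Sga3B.Word
open Groth.Agent.RedSub.H660.Iwasawa
open MvPolynomial

variable {idx M : Type} [Fintype idx] [AddCommGroup M] [Module.Free ℤ M]
    [Module.Finite ℤ M] {P : RootPairing idx ℤ M (Module.Dual ℤ M)} {b : P.Base}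
    {R A : Type u} [CommRing R] [CommRing A] [Algebra R A] [PtGrp R A] (E : PinCell P b R A)

section

variable {B C : Type u} [CommRing B] [Algebra R B] [CommRing C] [Algebra R C]

/-- the points of the big cell -/
def InCell (g : Pt R A B) : Prop := ∃ (x : idx → B) (t : TPt M B), g = E.cell x t

lemma inCell_iff (g : Pt R A B) : InCell E g ↔ E.cellIdeal.map g.hom.toRingHom = ⊤ :=
  E.mem_cell_iff g

lemma InCell.map {g : Pt R A B} (h : InCell E g) (φ : B →ₐ[R] C) : InCell E (Pt.map φ g) := by
  obtain ⟨x, t, rfl⟩ := h
  exact ⟨_, _, E.cell_nat φ x t⟩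

lemma ideal_map (g : Pt R A B) (φ : B →ₐ[R] C) :
    E.cellIdeal.map (Pt.map φ g).hom.toRingHom = (E.cellIdeal.map g.hom.toRingHom).map (φ : B →+* C) := by
  rw [Ideal.map_map]
  rfl

lemma InCell.of_local [IsLocalRing B] [IsLocalRing C] {g : Pt R A B} (φ : B →ₐ[R] C)
    [IsLocalHom (φ : B →+* C)] (h : InCell E (Pt.map φ g)) : InCell E g := by
  rw [inCell_iff] at h ⊢
  rw [ideal_map] at h
  by_contra hne
  have h1 := IsLocalRing.le_maximalIdeal hne
  have h2 : (E.cellIdeal.map g.hom.toRingHom).map (φ : B →+* C) ≤ IsLocalRing.maximalIdeal C :=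
    (Ideal.map_mono h1).trans (by
      rw [Ideal.map_le_iff_le_comap]
      intro x hx
      rw [Ideal.mem_comap, IsLocalRing.mem_maximalIdeal, mem_nonunits_iff]
      rw [IsLocalRing.mem_maximalIdeal, mem_nonunits_iff] at hx
      exact fun hu => hx (isUnit_of_map_unit (φ : B →+* C) x hu))
  rw [h] at h2
  exact (IsLocalRing.maximalIdeal.isMaximal C).ne_top (top_le_iff.1 h2)

lemma map_posP (φ : B →ₐ[R] C) (x : idx → B) : Pt.map φ (posP E x) = posP E (fun a => φ (x a)) := by
  unfold posP
  rw [Pt.map_list_prod, List.map_map]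
  congr 1
  apply List.map_congr_left
  intro a _
  exact E.uu_nat a φ (x a)

lemma map_negP (φ : B →ₐ[R] C) (x : idx → B) : Pt.map φ (negP E x) = negP E (fun a => φ (x a)) := by
  unfold negP
  rw [Pt.map_list_prod, List.map_map]
  congr 1
  apply List.map_congr_left
  intro a _
  exact E.uu_nat a φ (x a)

lemma negP_mul_inCell (y : idx → B) {g : Pt R A B} (h : InCell E g) : InCell E (negP E y * g) := by
  classical
  obtain ⟨x, t, rfl⟩ := h
  obtain ⟨z, hz, -⟩ := exists_negP_mul E y x
  refine ⟨glue b z x, t, ?_⟩
  rw [cell_eq_mul, cell_eq_mul, negP_glue, posP_glue, ← mul_assoc, ← mul_assoc, hz]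

lemma i_mul_inCell (s : TPt M B) {g : Pt R A B} (h : InCell E g) : InCell E (E.i B s * g) := by
  classical
  obtain ⟨x, t, rfl⟩ := h
  refine ⟨fun a => TPt.ch (P.root a) s * x a, s * t, ?_⟩
  rw [cell_eq_mul, cell_eq_mul, ← mul_assoc, ← mul_assoc, negP_mul_i, mul_assoc (negP E _) (E.i B s),
    posP_mul_i, map_mul]
  simp only [mul_assoc]

end

section field

variable {F : Type u} [Field F] [Algebra R F]

/-- the cell ideal of a generic `U⁺`-translate is non-zero -/
theorem ideal_ne_bot (g : Pt R A F) :
    E.cellIdeal.map (posP E (fun a => (X a : MvPolynomial idx F)) *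
      Pt.map (IsScalarTower.toAlgHom R F (MvPolynomial idx F)) g).hom.toRingHom ≠ ⊥ := by
  classical
  let L := AlgebraicClosure F
  let ψ : F →ₐ[R] L := IsScalarTower.toAlgHom R F L
  obtain ⟨x, t, x', t', h⟩ := exists_mul_mem_cell E (Pt.map ψ g)
  rw [cell_eq_mul, mul_assoc (negP E x)] at h
  obtain ⟨y, hy⟩ : ∃ y, posP E x * E.i L t = E.i L t * posP E y := by
    refine ⟨fun a => TPt.ch (P.root a) t⁻¹ * x a, ?_⟩
    rw [posP_mul_i]
    congr 2
    funext a
    rw [← mul_assoc, ch_mul_ch_inv, one_mul]
  rw [hy] at h
  obtain ⟨z, hz⟩ := exists_negP_inv E x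
  have h2 : posP E y * Pt.map ψ g = E.i L t⁻¹ * (negP E z * E.cell x' t') := by
    rw [← h, ← hz, i_inv]
    group
  have h3 : InCell E (posP E y * Pt.map ψ g) := by
    rw [h2]
    exact i_mul_inCell E _ (negP_mul_inCell E _ ⟨_, _, rfl⟩)
  let φ : MvPolynomial idx F →ₐ[R] L := (MvPolynomial.aeval y : MvPolynomial idx F →ₐ[F] L).restrictScalars R
  intro h0
  have h4 : E.cellIdeal.map (posP E y * Pt.map ψ g).hom.toRingHom = ⊤ := (inCell_iff E _).1 h3
  have h5 : posP E y * Pt.map ψ g = Pt.map φ (posP E (fun a => (X a : MvPolynomial idx F)) *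
      Pt.map (IsScalarTower.toAlgHom R F (MvPolynomial idx F)) g) := by
    rw [Pt.map_mul, map_posP, Pt.map_map]
    congr 1
    · congr 1
      funext a
      change y a = (MvPolynomial.aeval y : MvPolynomial idx F →ₐ[F] L) (X a)
      rw [aeval_X]
    · congr 1
      ext a
      change algebraMap F L a = (MvPolynomial.aeval y : MvPolynomial idx F →ₐ[F] L)
        (algebraMap F (MvPolynomial idx F) a)
      rw [AlgHom.commutes]
  rw [h5, ideal_map, h0, Ideal.map_bot] at h4
  exact bot_ne_top h4

/-- a translate by a point of `U⁺` with coordinates in a given infinite set lies in the cell -/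
theorem exists_posP_mul_inCell_field {S : Set F} (hS : S.Infinite) (g : Pt R A F) :
    ∃ y : idx → F, (∀ a, y a ∈ S) ∧ InCell E (posP E y * g) := by
  obtain ⟨p, hp, hp0⟩ := Submodule.exists_mem_ne_zero_of_ne_bot (ideal_ne_bot E g)
  by_contra hcon
  push Not at hcon
  apply hp0
  apply MvPolynomial.funext_set (fun _ => S) (fun _ => hS)
  intro y hy
  rw [map_zero]
  by_contra hne
  apply hcon y (fun a => hy a (Set.mem_univ a))
  let φ : MvPolynomial idx F →ₐ[R] F := (MvPolynomial.aeval y : MvPolynomial idx F →ₐ[F] F).restrictScalars R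
  have h5 : posP E y * g = Pt.map φ (posP E (fun a => (X a : MvPolynomial idx F)) *
      Pt.map (IsScalarTower.toAlgHom R F (MvPolynomial idx F)) g) := by
    rw [Pt.map_mul, map_posP, Pt.map_map]
    congr 1
    · congr 1
      funext a
      change y a = (MvPolynomial.aeval y : MvPolynomial idx F →ₐ[F] F) (X a)
      rw [aeval_X]
    · have : φ.comp (IsScalarTower.toAlgHom R F (MvPolynomial idx F)) = AlgHom.id R F := by
        ext a
        change (MvPolynomial.aeval y : MvPolynomial idx F →ₐ[F] F)
          (algebraMap F (MvPolynomial idx F) a) = a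
        rw [AlgHom.commutes]
        rfl
      rw [this, Pt.map_id]
  rw [inCell_iff, h5, ideal_map]
  refine Ideal.eq_top_of_isUnit_mem _ (Ideal.mem_map_of_mem _ hp) ?_
  rw [isUnit_iff_ne_zero]
  exact hne

end field

section loc

variable {B : Type u} [CommRing B] [IsLocalRing B] [Algebra R B]

/-- over a local ring with infinite residue field every point is moved into the big cell by an element
of `U⁺` -/
theorem exists_posP_mul_inCell [Infinite (IsLocalRing.ResidueField B)] (g : Pt R A B) :
    ∃ y : idx → B, InCell E (posP E y * g) := by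
  let φ : B →ₐ[R] IsLocalRing.ResidueField B := IsScalarTower.toAlgHom R B _
  obtain ⟨y, -, hy⟩ := exists_posP_mul_inCell_field E
    (S := (Set.univ : Set (IsLocalRing.ResidueField B))) Set.infinite_univ (Pt.map φ g)
  choose z hz using fun a => IsLocalRing.residue_surjective (y a)
  refine ⟨z, ?_⟩
  have : IsLocalHom (φ : B →+* IsLocalRing.ResidueField B) :=
    inferInstanceAs (IsLocalHom (IsLocalRing.residue B))
  apply InCell.of_local E φ
  rw [Pt.map_mul, map_posP]
  have : (fun a => φ (z a)) = y := funext hz
  rw [this]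
  exact hy

/-- the same with coordinates in a given set with infinite image in the residue field -/
theorem exists_posP_mul_inCell_of {V : Type u} [CommRing V] [Algebra R V] (f : V →ₐ[R] B)
    (hf : (Set.range fun v => IsLocalRing.residue B (f v)).Infinite) (g : Pt R A B) :
    ∃ y : idx → V, InCell E (Pt.map f (posP E y) * g) := by
  let φ : B →ₐ[R] IsLocalRing.ResidueField B := IsScalarTower.toAlgHom R B _
  obtain ⟨y, hyS, hy⟩ := exists_posP_mul_inCell_field E hf (Pt.map φ g)
  choose z hz using hyS
  refine ⟨z, ?_⟩
  have : IsLocalHom (φ : B →+* IsLocalRing.ResidueField B) :=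
    inferInstanceAs (IsLocalHom (IsLocalRing.residue B))
  apply InCell.of_local E φ
  rw [Pt.map_mul, map_posP, map_posP]
  have : (fun a => φ (f (z a))) = y := funext hz
  rw [this]
  exact hy

end loc

/-- over an infinite field, the points are generated by the simple root groups and the torus -/
theorem closure_gens_eq_top (F : Type u) [Field F] [Infinite F] [Algebra R F] :
    Subgroup.closure (gens E F) = ⊤ := by
  classical
  rw [eq_top_iff]
  intro g _
  obtain ⟨y, -, x, t, h⟩ := exists_posP_mul_inCell_field E (S := (Set.univ : Set F)) Set.infinite_univ g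
  have h1 : g = (posP E y)⁻¹ * E.cell x t := by rw [← h, inv_mul_cancel_left]
  have h2 : posP E y = E.cell (fun a => if b.IsPos a then y a else 0) 1 := by
    rw [cell_eq_posP E (fun a ha => by simp [ha])]
    exact posP_congr E (fun a ha => by simp [ha])
  rw [h1, h2]
  exact Subgroup.mul_mem _ (Subgroup.inv_mem _ (cell_mem_closure E _ _)) (cell_mem_closure E _ _)

section gauss

open K209.Gauss IsLocalRing

variable {V : Type u} [CommRing V] [IsDomain V] [ValuationRing V] [Algebra R V]

/-- the generic point of `U⁺` moves every point over `V` into the big cell -/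
theorem generic_inCell (g : Pt R A V) :
    InCell E (posP E (fun a => algebraMap (MvPolynomial idx V) (GV V idx) (X a)) *
      Pt.map (IsScalarTower.toAlgHom R V (GV V idx)) g) := by
  let c : V →ₐ[R] MvPolynomial idx V := IsScalarTower.toAlgHom R V (MvPolynomial idx V)
  let l : MvPolynomial idx V →ₐ[R] GV V idx := IsScalarTower.toAlgHom R (MvPolynomial idx V) (GV V idx)
  let ρ : V →ₐ[R] ResidueField V := IsScalarTower.toAlgHom R V (ResidueField V)
  let red : MvPolynomial idx V →ₐ[R] MvPolynomial idx (ResidueField V) :=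
    { (MvPolynomial.map (residue V)) with
      commutes' := fun r => by
        change MvPolynomial.map (residue V) (C (algebraMap R V r)) = C (algebraMap R (ResidueField V) r)
        rw [map_C]
        rfl }
  let κ₀ : Pt R A (MvPolynomial idx V) := posP E (fun a => (X a : MvPolynomial idx V)) * Pt.map c g
  have h1 : posP E (fun a => algebraMap (MvPolynomial idx V) (GV V idx) (X a)) *
      Pt.map (IsScalarTower.toAlgHom R V (GV V idx)) g = Pt.map l κ₀ := by
    rw [Pt.map_mul, map_posP, Pt.map_map]
    rfl
  have h2 : Pt.map red κ₀ = posP E (fun a => (X a : MvPolynomial idx (ResidueField V))) *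
      Pt.map (IsScalarTower.toAlgHom R (ResidueField V) (MvPolynomial idx (ResidueField V)))
        (Pt.map ρ g) := by
    rw [Pt.map_mul, map_posP, Pt.map_map, Pt.map_map]
    congr 1
    · congr 1
      funext a
      exact map_X (residue V) a
    · congr 1
      apply AlgHom.ext
      intro v
      change MvPolynomial.map (residue V) (C v) = C (residue V v)
      rw [map_C]
  have h3 := ideal_ne_bot E (Pt.map ρ g)
  rw [← h2, ideal_map] at h3
  have h4 : ¬ (E.cellIdeal.map κ₀.hom.toRingHom ≤ gp V idx) := by
    intro hle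
    apply h3
    rw [Ideal.map_eq_bot_iff_le_ker]
    exact hle
  rw [SetLike.not_le_iff_exists] at h4
  obtain ⟨p, hp, hp'⟩ := h4
  rw [inCell_iff, h1, ideal_map]
  exact Ideal.eq_top_of_isUnit_mem _ (Ideal.mem_map_of_mem _ hp)
    (IsLocalization.map_units (GV V idx) (⟨p, hp'⟩ : (gp V idx).primeCompl))

end gauss

end K209.CellGen
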